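import Mathlib.Topology.Sober
import Mathlib.RingTheory.Ideal.MinimalPrime.Noetherian
import Mathlib.RingTheory.Spectrum.Prime.Topology
import Mathlib.RingTheory.Spectrum.Prime.Noetherian

/-! Dense open subsets and generic points of irreducible components. -/

namespace Groth.Agent.RatFun90

open Set TopologicalSpace

variable {X : Type*} [TopologicalSpace X]

/-- An open containing a point of every irreducible component is dense. -/
lemma dense_of_meets_components {U : Set X} (hU : IsOpen U)
    (h : ∀ Z ∈ irreducibleComponents X, (Z ∩ U).Nonempty) : Dense U := fun x => by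
  have hZ := irreducibleComponent_mem_irreducibleComponents x
  have hirr : IsPreirreducible (irreducibleComponent x) := hZ.1.2
  exact closure_mono inter_subset_right
    (subset_closure_inter_of_isPreirreducible_of_isOpen hirr hU (h _ hZ) mem_irreducibleComponent)

lemma closure_singleton_mem_irreducibleComponents_of_generic {Z : Set X}
    (hZ : Z ∈ irreducibleComponents X) {ξ : X} (hξ : IsGenericPoint ξ Z) :
    closure ({ξ} : Set X) ∈ irreducibleComponents X := by rwa [hξ.def]

/-- The open complement of the other components, when there are finitely many. -/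
def compOpen (hfin : (irreducibleComponents X).Finite) (Z : Set X) : Opens X :=
  ⟨(⋃₀ (irreducibleComponents X \ {Z}))ᶜ, by
    rw [isOpen_compl_iff, sUnion_eq_biUnion]
    exact hfin.sdiff.isClosed_biUnion fun W hW => isClosed_of_mem_irreducibleComponents W hW.1⟩

variable (hfin : (irreducibleComponents X).Finite)

include hfin in
lemma compOpen_subset (Z : Set X) : (compOpen hfin Z : Set X) ⊆ Z := by
  intro x hx
  have hx' : x ∈ irreducibleComponent x := mem_irreducibleComponent
  by_contra h
  exact hx ⟨irreducibleComponent x, ⟨irreducibleComponent_mem_irreducibleComponents x,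
    fun e => h (by rw [mem_singleton_iff] at e; rwa [e] at hx')⟩, hx'⟩

include hfin in
lemma compOpen_disjoint {Z W : Set X} (hW : W ∈ irreducibleComponents X) (hne : Z ≠ W) :
    compOpen hfin Z ⊓ compOpen hfin W = ⊥ := by
  refine SetLike.ext' (Set.eq_empty_of_forall_notMem fun x hx => hx.1 ?_)
  exact ⟨W, ⟨hW, Ne.symm hne⟩, compOpen_subset hfin W hx.2⟩

include hfin in
lemma compOpen_nonempty {Z : Set X} (hZ : Z ∈ irreducibleComponents X) :
    (Z ∩ (compOpen hfin Z : Set X)).Nonempty := by
  by_contra h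
  have hsub : Z ⊆ ⋃₀ (irreducibleComponents X \ {Z}) := fun x hx => by
    by_contra hx'
    exact h ⟨x, hx, hx'⟩
  obtain ⟨W, hW, hZW⟩ := (isIrreducible_iff_sUnion_isClosed.mp hZ.1) hfin.sdiff.toFinset
    (by intro t ht; exact isClosed_of_mem_irreducibleComponents t ((Finite.mem_toFinset _).mp ht).1)
    (by simpa using hsub)
  rw [Finite.mem_toFinset] at hW
  exact hW.2 (le_antisymm (hZ.2 hW.1.1 hZW) hZW)

include hfin in
lemma generic_mem_compOpen {Z : Set X} (hZ : Z ∈ irreducibleComponents X) {ξ : X}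
    (hξ : IsGenericPoint ξ Z) : ξ ∈ compOpen hfin Z :=
  (hξ.mem_open_set_iff (compOpen hfin Z).2).mpr (compOpen_nonempty hfin hZ)

include hfin in
/-- A dense open contains the generic point of each component. -/
lemma generic_mem_of_dense {U : Set X} (hU : IsOpen U) (hd : Dense U)
    {Z : Set X} (hZ : Z ∈ irreducibleComponents X) {ξ : X} (hξ : IsGenericPoint ξ Z) : ξ ∈ U := by
  obtain ⟨x, hx⟩ := compOpen_nonempty hfin hZ
  obtain ⟨y, hy, hyU⟩ := hd.inter_open_nonempty _ (compOpen hfin Z).2 ⟨x, hx.2⟩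
  exact (hξ.mem_open_set_iff hU).mpr ⟨y, compOpen_subset hfin Z hy, hyU⟩

include hfin in
lemma dense_iff_generic_mem [QuasiSober X] {U : Set X} (hU : IsOpen U) :
    Dense U ↔ ∀ Z ∈ irreducibleComponents X, ∀ ξ, IsGenericPoint ξ Z → ξ ∈ U := by
  refine ⟨fun hd Z hZ ξ hξ => generic_mem_of_dense hfin hU hd hZ hξ, fun h => ?_⟩
  refine dense_of_meets_components hU fun Z hZ => ?_
  obtain ⟨ξ, hξ⟩ := QuasiSober.sober hZ.1 (isClosed_of_mem_irreducibleComponents Z hZ)
  exact ⟨ξ, hξ.mem, h Z hZ ξ hξ⟩

/-- In a Noetherian ring `D(f)` is dense iff `f` lies in no minimal prime. -/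
lemma basicOpen_dense_iff (A : Type*) [CommRing A] [IsNoetherianRing A] (f : A) :
    Dense (PrimeSpectrum.basicOpen f : Set (PrimeSpectrum A)) ↔ ∀ p ∈ minimalPrimes A, f ∉ p := by
  rw [dense_iff_generic_mem NoetherianSpace.finite_irreducibleComponents
    (PrimeSpectrum.basicOpen f).isOpen]
  constructor
  · intro h p hp
    have hZ : closure ({⟨p, hp.1.1⟩} : Set (PrimeSpectrum A)) ∈
        irreducibleComponents (PrimeSpectrum A) := by
      rw [← PrimeSpectrum.vanishingIdeal_mem_minimalPrimes, PrimeSpectrum.vanishingIdeal_singleton]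
      exact hp
    exact h _ hZ ⟨p, hp.1.1⟩ isGenericPoint_closure
  · intro h Z hZ ξ hξ
    have hmin : ξ.asIdeal ∈ minimalPrimes A := by
      rw [← PrimeSpectrum.vanishingIdeal_singleton, PrimeSpectrum.vanishingIdeal_mem_minimalPrimes]
      rwa [hξ.def]
    exact h _ hmin

/-- A dense open of the spectrum of a Noetherian ring contains a dense basic open. -/
lemma exists_dense_basicOpen_subset (A : Type*) [CommRing A] [IsNoetherianRing A]
    (U : Set (PrimeSpectrum A)) (hU : IsOpen U) (hd : Dense U) :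
    ∃ f : A, (∀ p ∈ minimalPrimes A, f ∉ p) ∧ (PrimeSpectrum.basicOpen f : Set _) ⊆ U := by
  obtain ⟨s, hs⟩ := (PrimeSpectrum.isClosed_iff_zeroLocus_ideal Uᶜ).mp hU.isClosed_compl
  have hnot : ∀ p ∈ minimalPrimes A, ¬ s ≤ p := by
    intro p hp hle
    have hmem : (⟨p, hp.1.1⟩ : PrimeSpectrum A) ∈ U := by
      refine generic_mem_of_dense NoetherianSpace.finite_irreducibleComponents hU hd
        (Z := closure {⟨p, hp.1.1⟩}) ?_ (isGenericPoint_closure)
      rw [← PrimeSpectrum.vanishingIdeal_mem_minimalPrimes, PrimeSpectrum.vanishingIdeal_singleton]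
      exact hp
    have : (⟨p, hp.1.1⟩ : PrimeSpectrum A) ∈ Uᶜ := by rw [hs]; exact hle
    exact this hmem
  have hfinp := minimalPrimes.finite_of_isNoetherianRing A
  obtain ⟨f, hfs, hf⟩ : ∃ f ∈ s, ∀ p ∈ minimalPrimes A, f ∉ p := by
    by_contra hcon
    push Not at hcon
    have hsub : (s : Set A) ⊆ ⋃ p ∈ hfinp.toFinset, (p : Set A) := fun x hx => by
      obtain ⟨p, hp, hxp⟩ := hcon x hx
      exact mem_iUnion₂.mpr ⟨p, hfinp.mem_toFinset.mpr hp, hxp⟩
    obtain ⟨p, hp, hle⟩ := (Ideal.subset_union_prime ⊥ ⊥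
      (fun p hp _ _ => (hfinp.mem_toFinset.mp hp).1.1)).mp hsub
    exact hnot p (hfinp.mem_toFinset.mp hp) hle
  refine ⟨f, hf, fun x hx => ?_⟩
  by_contra hxU
  have : x ∈ PrimeSpectrum.zeroLocus (s : Set A) := hs ▸ hxU
  exact hx (this hfs)

end Groth.Agent.RatFun90
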